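import Cfsg.Agent.ThreeCubed.Transfer
import Cfsg.Agent.Char.Linear

/-!
# The exceptional characters give three linear characters
-/

set_option autoImplicit false

namespace CfsgLib.ThreeCubed

open CfsgLib.Char
open scoped ComplexConjugate

universe u

variable {G : Type u} [Group G] [Fintype G]

theorem inner_swap {φ ψ : G → ℂ} {n : ℤ} (h : Cfsg.classInner φ ψ = n) :
    Cfsg.classInner ψ φ = n := by rw [← classInner_conj, h]; simp

theorem inner_swap_zero {φ ψ : G → ℂ} (h : Cfsg.classInner φ ψ = 0) :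
    Cfsg.classInner ψ φ = 0 := by rw [← classInner_conj, h, map_zero]

theorem signed_deg {X : G → ℂ} (h : IsSignedIrr X) : ∃ n : ℤ, X 1 = n ∧ n ≠ 0 := by
  obtain ⟨n, hn⟩ := IsGeneralized.exists_apply_one (IsSignedIrr.isGeneralized h)
  exact ⟨n, hn, fun h0 => IsSignedIrr.apply_one_ne_zero h (by rw [hn, h0]; simp)⟩

/-- Two orthogonal pairs of degree `-1` whose sums are orthogonal are disjoint. -/
theorem pair_disjoint {X₁ Y₁ X₂ Y₂ : G → ℂ} (hX₁ : IsSignedIrr X₁) (hY₁ : IsSignedIrr Y₁)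
    (hX₂ : IsSignedIrr X₂) (hY₂ : IsSignedIrr Y₂) (h₁ : Cfsg.classInner X₁ Y₁ = 0)
    (h₂ : Cfsg.classInner X₂ Y₂ = 0) (hsum : Cfsg.classInner (X₁ + Y₁) (X₂ + Y₂) = 0)
    (d₁ : X₁ 1 + Y₁ 1 = -1) (d₂ : X₂ 1 + Y₂ 1 = -1) : Cfsg.classInner X₁ X₂ = 0 := by
  by_contra hne
  obtain ⟨s, hs, rfl, hsv⟩ := IsSignedIrr.eq_smul_of_classInner_ne hX₁ hX₂ hne
  have hs0 : s ≠ 0 := by rcases hs with rfl | rfl <;> norm_num
  have a1 : Cfsg.classInner Y₁ (s • X₁) = 0 := by
    rw [classInner_smul_right, inner_swap_zero h₁, mul_zero]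
  have a2 : Cfsg.classInner X₁ Y₂ = 0 := by
    rw [classInner_smul_left, mul_eq_zero] at h₂
    exact h₂.resolve_left hs0
  rw [classInner_add_left, classInner_add_right, classInner_add_right, hsv, a1, a2] at hsum
  have hY : Cfsg.classInner Y₁ Y₂ ≠ 0 := fun h0 => hs0 (by rw [h0] at hsum; simpa using hsum)
  obtain ⟨t, ht, rfl, htv⟩ := IsSignedIrr.eq_smul_of_classInner_ne hY₁ hY₂ hY
  rw [htv] at hsum
  have hts : t = -s := by linear_combination hsum
  subst hts
  simp only [Pi.smul_apply, smul_eq_mul] at d₂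
  rcases hs with rfl | rfl
  · exact IsSignedIrr.apply_one_ne_zero hY₁ (by linear_combination (d₁ - d₂) / 2)
  · exact IsSignedIrr.apply_one_ne_zero hX₁ (by linear_combination (d₁ - d₂) / 2)

/-- The degree argument. -/
theorem degree_eq_one {n g a₀ a₁ a₂ u₀ u₁ u₂ : ℂ} (hg : g ≠ 0)
    (ha₀ : a₀ ≠ 0) (ha₁ : a₁ ≠ 0) (ha₂ : a₂ ≠ 0)
    (e₀ : 1 + a₀ ≠ 0) (e₁ : 1 + a₁ ≠ 0) (e₂ : 1 + a₂ ≠ 0)
    (s₁ : a₂ + a₀ ≠ 0) (s₂ : a₀ + a₁ ≠ 0) (w : 1 + (a₀ + a₁ + a₂) ≠ 0)
    (A₀ : n ^ 2 + u₀ ^ 2 / a₀ + (-n - u₀) ^ 2 / (-1 - a₀) = 6 * g)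
    (A₁ : n ^ 2 + u₁ ^ 2 / a₁ + (-n - u₁) ^ 2 / (-1 - a₁) = 6 * g)
    (A₂ : n ^ 2 + u₂ ^ 2 / a₂ + (-n - u₂) ^ 2 / (-1 - a₂) = 6 * g)
    (B₁ : u₂ ^ 2 / a₂ + u₀ ^ 2 / a₀ + (-u₂ - u₀) ^ 2 / (-a₂ - a₀) = 0)
    (B₂ : u₀ ^ 2 / a₀ + u₁ ^ 2 / a₁ + (-u₀ - u₁) ^ 2 / (-a₀ - a₁) = 0)
    (P : n ^ 2 + u₀ ^ 2 / a₀ + u₁ ^ 2 / a₁ + u₂ ^ 2 / a₂
      + (-n - u₀ - u₁ - u₂) ^ 2 / (-1 - a₀ - a₁ - a₂) = 9 * g) :
    a₀ = 1 ∧ a₁ = 1 ∧ a₂ = 1 := by
  have keyA : ∀ a u : ℂ, a ≠ 0 → 1 + a ≠ 0 →
      n ^ 2 + u ^ 2 / a + (-n - u) ^ 2 / (-1 - a) = 6 * g →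
      (n * a - u) ^ 2 = 6 * g * a * (1 + a) := by
    intro a u ha he h
    have he' : -1 - a ≠ 0 := fun h0 => he (by linear_combination -h0)
    field_simp at h
    linear_combination -h
  have keyB : ∀ a b u v : ℂ, a ≠ 0 → b ≠ 0 → a + b ≠ 0 →
      u ^ 2 / a + v ^ 2 / b + (-u - v) ^ 2 / (-a - b) = 0 → u * b = v * a := by
    intro a b u v ha hb hab h
    have hab' : -a - b ≠ 0 := fun h0 => hab (by linear_combination -h0)
    field_simp at h
    have : (u * b - v * a) ^ 2 = 0 := by linear_combination -h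
    linear_combination (pow_eq_zero_iff two_ne_zero).1 this
  have k₀ := keyA a₀ u₀ ha₀ e₀ A₀
  have k₁ := keyA a₁ u₁ ha₁ e₁ A₁
  have k₂ := keyA a₂ u₂ ha₂ e₂ A₂
  have b₂ := keyB _ _ _ _ ha₀ ha₁ s₂ B₂
  have b₁ := keyB _ _ _ _ ha₂ ha₀ s₁ B₁
  have eq₁ : a₁ = a₀ := by
    have h : 6 * g * a₀ * a₁ * (a₁ - a₀) = 0 := by
      linear_combination -(a₁ ^ 2) * k₀ + a₀ ^ 2 * k₁ -
        (2 * n * a₀ * a₁ - u₀ * a₁ - u₁ * a₀) * b₂
    simpa [hg, ha₀, ha₁, sub_eq_zero] using h
  have eq₂ : a₂ = a₀ := by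
    have h : 6 * g * a₀ * a₂ * (a₂ - a₀) = 0 := by
      linear_combination -(a₂ ^ 2) * k₀ + a₀ ^ 2 * k₂ +
        (2 * n * a₀ * a₂ - u₀ * a₂ - u₂ * a₀) * b₁
    simpa [hg, ha₀, ha₂, sub_eq_zero] using h
  rw [eq₁] at b₂ P ⊢
  rw [eq₂] at b₁ P ⊢
  have hu₁ : u₁ = u₀ := mul_right_cancel₀ ha₀ b₂.symm
  have hu₂ : u₂ = u₀ := mul_right_cancel₀ ha₀ b₁
  rw [hu₁, hu₂] at P
  have w' : -1 - a₀ - a₀ - a₀ ≠ 0 := fun h0 => w (by linear_combination -h0 + eq₁ + eq₂)
  field_simp at P
  have h : g * a₀ * (1 - a₀) = 0 := by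
    first
    | linear_combination (-(1:ℂ)/9) * P - (1/3 : ℂ) * k₀
    | linear_combination ((1:ℂ)/9) * P - (1/3 : ℂ) * k₀
  simp only [mul_eq_zero, sub_eq_zero] at h
  rcases h with (h | h) | h
  · exact absurd h hg
  · exact absurd h ha₀
  · exact ⟨h.symm, h.symm, h.symm⟩

/-- Three linear characters attached to the exceptional ones. -/
theorem exists_linear {H : Subgroup G} [Fintype H] (e : M ≃* H)
    (hTI : ∀ g : G, g ∉ H → ∀ t ∈ DSet H, g * t * g⁻¹ ∈ DSet H → t = 1)
    (hinv : ∀ x : G, x * x = 1 → ∀ d ∈ DSet H, x * d * x⁻¹ = d⁻¹ → x ∈ H) :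
    ∃ φ : Fin 3 → G →* ℂˣ, ∀ i j, Cfsg.classInner (tau e (vA i)) (fun g => (φ j g : ℂ))
      = if i = j then 1 else 0 := by
  classical
  have vA0 : ∀ i, ∀ k : M, k * k = 1 → vA i k = 0 := fun i k hk => (vanish k hk).1 i
  have vB0 : ∀ i, ∀ k : M, k * k = 1 → vB i k = 0 := fun i k hk => (vanish k hk).2.1 i
  have vP0 : ∀ k : M, k * k = 1 → vP k = 0 := fun k hk => (vanish k hk).2.2.1
  have vP0' : ∀ k : M, k * k = 1 → vP' k = 0 := fun k hk => (vanish k hk).2.2.2
  let one : G → ℂ := fun _ => 1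
  have hone : IsSignedIrr one := Or.inl isIrrCharacter_one
  have h11 : Cfsg.classInner one one = 1 := classInner_one_one
  -- decomposition of the first three
  have hA : ∀ i, ∃ X Y : G → ℂ, IsSignedIrr X ∧ IsSignedIrr Y ∧ Cfsg.classInner X Y = 0 ∧
      tau e (vA i) - one = X + Y := fun i => by
    refine exists_two (IsGeneralized.sub (tau_gen e (isGen_vA i)) isGeneralized_one) ?_
    have h1 : Cfsg.classInner (tau e (vA i)) one = ((1 : ℤ) : ℂ) := by
      rw [tau_inner_one, ip_A1]; norm_num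
    rw [classInner_sub_left, classInner_sub_right, classInner_sub_right, h11, h1, inner_swap h1,
      tau_inner e hTI (vA0 i) (vA0 i) (isGen_vA i), ip_A, if_pos rfl]
    norm_num
  choose X Y hX hY hXY hAeq using hA
  have hA1 : ∀ i, Cfsg.classInner (X i + Y i) one = 0 := fun i => by
    rw [← hAeq, classInner_sub_left, h11, tau_inner_one, ip_A1]; norm_num
  have hnotone : ∀ i, Cfsg.classInner (X i) one = 0 ∧ Cfsg.classInner (Y i) one = 0 := fun i => by
    have hd : X i 1 + Y i 1 = -1 := by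
      rw [← Pi.add_apply, ← hAeq, Pi.sub_apply, tau_one e (vA0 i)]; simp [one]
    have hs := hA1 i
    rw [classInner_add_left] at hs
    suffices Cfsg.classInner (X i) one = 0 by
      refine ⟨this, ?_⟩
      rw [this, zero_add] at hs; exact hs
    by_contra hne
    obtain ⟨s, hs', h1s, hsv⟩ := IsSignedIrr.eq_smul_of_classInner_ne (hX i) hone hne
    have hne2 : Cfsg.classInner (Y i) one ≠ 0 := fun h0 => by
      rw [h0, add_zero] at hs; exact hne hs
    obtain ⟨t, ht, h1t, htv⟩ := IsSignedIrr.eq_smul_of_classInner_ne (hY i) hone hne2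
    have := hXY i
    have ht0 : t ≠ 0 := by rcases ht with rfl | rfl <;> norm_num
    apply hne
    rw [h1t, classInner_smul_right, this, mul_zero]
  have hdA : ∀ i, X i 1 + Y i 1 = -1 := fun i => by
    rw [← Pi.add_apply, ← hAeq, Pi.sub_apply, tau_one e (vA0 i)]; simp [one]
  have hAA : ∀ i j, i ≠ j → Cfsg.classInner (X i + Y i) (X j + Y j) = 0 := fun i j hij => by
    rw [← hAeq, ← hAeq]
    have h1 : ∀ k, Cfsg.classInner (tau e (vA k)) one = ((1 : ℤ) : ℂ) := fun k => by
      rw [tau_inner_one, ip_A1]; norm_num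
    rw [classInner_sub_left, classInner_sub_right, classInner_sub_right, h11, h1,
      inner_swap (h1 j), tau_inner e hTI (vA0 i) (vA0 j) (isGen_vA j), ip_A, if_neg hij]
    norm_num
  have hdis : ∀ i j, i ≠ j → Cfsg.classInner (X i) (X j) = 0 ∧ Cfsg.classInner (X i) (Y j) = 0 ∧
      Cfsg.classInner (Y i) (Y j) = 0 := fun i j hij => by
    have h := hAA i j hij
    refine ⟨pair_disjoint (hX i) (hY i) (hX j) (hY j) (hXY i) (hXY j) h (hdA i) (hdA j), ?_, ?_⟩
    · exact pair_disjoint (hX i) (hY i) (hY j) (hX j) (hXY i) (inner_swap_zero (hXY j))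
        (by rwa [add_comm (Y j)]) (hdA i) (by rw [add_comm]; exact hdA j)
    · exact pair_disjoint (hY i) (hX i) (hY j) (hX j) (inner_swap_zero (hXY i))
        (inner_swap_zero (hXY j)) (by rwa [add_comm (Y j), add_comm (Y i)])
        (by rw [add_comm]; exact hdA i) (by rw [add_comm]; exact hdA j)
  -- the function P
  have hP1 : Cfsg.classInner (tau e vP) one = ((1 : ℤ) : ℂ) := by
    rw [tau_inner_one, ip_P.2.2.2.1]; norm_num
  have hcd : ∀ i, ∃ c : ℤ, Cfsg.classInner (tau e vP) (X i) = c ∧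
      Cfsg.classInner (tau e vP) (Y i) = ((1 - c : ℤ) : ℂ) := fun i => by
    obtain ⟨c, hc⟩ := IsGeneralized.exists_classInner_eq_int (tau_gen e isGen_vP)
      (IsSignedIrr.isGeneralized (hX i))
    refine ⟨c, hc, ?_⟩
    have h := congrArg (Cfsg.classInner (tau e vP)) (hAeq i)
    rw [classInner_sub_right, classInner_add_right, hP1, hc,
      tau_inner e hTI vP0 (vA0 i) (isGen_vA i), (ip_PA i).1] at h
    push_cast at h ⊢
    linear_combination -h
  choose c hc hd using hcd
  have hc01 : ∀ i, c i = 0 ∨ c i = 1 := by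
    let F : Fin 7 → G → ℂ := ![X 0, Y 0, X 1, Y 1, X 2, Y 2, one]
    have hF : ∀ i, IsSignedIrr (F i) := fun i => by fin_cases i <;> simp [F, hX, hY, hone]
    have horth : ∀ i j, i ≠ j → Cfsg.classInner (F i) (F j) = 0 := by
      intro i j hij
      fin_cases i <;> fin_cases j <;>
        simp [F, hXY, inner_swap_zero (hXY _), hdis, inner_swap_zero (hdis _ _ _).2.1, hnotone,
          inner_swap_zero (hnotone _).1, inner_swap_zero (hnotone _).2] at hij ⊢
      all_goals first
        | exact inner_swap_zero (hdis _ _ (by decide)).2.1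
        | exact inner_swap_zero (hdis _ _ (by decide)).1
        | exact inner_swap_zero (hdis _ _ (by decide)).2.2
    have hb := (bessel F hF horth (φ := tau e vP) ![c 0, 1 - c 0, c 1, 1 - c 1, c 2, 1 - c 2, 1]
      (fun i => by fin_cases i <;> simp [F, hc, hd, hP1]) (k := 5)
      (by rw [tau_inner e hTI vP0 vP0 isGen_vP, ip_P.1]; norm_num)).1
    simp only [Fin.sum_univ_seven, Matrix.cons_val] at hb
    have hpos : ∀ x : ℤ, 1 ≤ x * x + (1 - x) * (1 - x) := fun x => by
      rcases le_or_gt x 0 with h | h <;> nlinarith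
    have hle : ∀ x : ℤ, x * x + (1 - x) * (1 - x) ≤ 2 → x = 0 ∨ x = 1 := fun x h => by
      have h1 : -1 < x := by nlinarith
      have h2 : x < 2 := by nlinarith
      omega
    have h0 := hle (c 0) (by linarith [hpos (c 1), hpos (c 2)])
    have h1 := hle (c 1) (by linarith [hpos (c 0), hpos (c 2)])
    have h2 := hle (c 2) (by linarith [hpos (c 1), hpos (c 0)])
    intro i
    fin_cases i <;> assumption
  obtain ⟨q, r, hqs, hrs, hqq, hrr, hqr, hq1, hr1, hAq, hPq, hPr⟩ :
      ∃ q r : Fin 3 → G → ℂ, (∀ i, IsSignedIrr (q i)) ∧ (∀ i, IsSignedIrr (r i)) ∧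
        (∀ i j, i ≠ j → Cfsg.classInner (q i) (q j) = 0) ∧
        (∀ i j, i ≠ j → Cfsg.classInner (r i) (r j) = 0) ∧
        (∀ i j, Cfsg.classInner (q i) (r j) = 0) ∧
        (∀ i, Cfsg.classInner (q i) one = 0) ∧ (∀ i, Cfsg.classInner (r i) one = 0) ∧
        (∀ i, tau e (vA i) = one + q i + r i) ∧
        (∀ i, Cfsg.classInner (tau e vP) (q i) = 1) ∧
        (∀ i, Cfsg.classInner (tau e vP) (r i) = 0) := by
    refine ⟨fun i => if c i = 1 then X i else Y i, fun i => if c i = 1 then Y i else X i,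
      fun i => ?_, fun i => ?_, fun i j h => ?_, fun i j h => ?_, fun i j => ?_, fun i => ?_,
      fun i => ?_, fun i => ?_, fun i => ?_, fun i => ?_⟩
    · dsimp only; split_ifs; exacts [hX i, hY i]
    · dsimp only; split_ifs; exacts [hY i, hX i]
    · dsimp only; split_ifs
      exacts [(hdis i j h).1, (hdis i j h).2.1, inner_swap_zero (hdis j i h.symm).2.1,
        (hdis i j h).2.2]
    · dsimp only; split_ifs
      exacts [(hdis i j h).2.2, inner_swap_zero (hdis j i h.symm).2.1, (hdis i j h).2.1,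
        (hdis i j h).1]
    · dsimp only
      by_cases h : i = j
      · subst h; split_ifs
        exacts [hXY i, inner_swap_zero (hXY i)]
      · split_ifs
        exacts [(hdis i j h).2.1, (hdis i j h).1, (hdis i j h).2.2,
          inner_swap_zero (hdis j i (Ne.symm h)).2.1]
    · dsimp only; split_ifs; exacts [(hnotone i).1, (hnotone i).2]
    · dsimp only; split_ifs; exacts [(hnotone i).2, (hnotone i).1]
    · have := hAeq i
      dsimp only; split_ifs
      · rw [add_assoc, ← this]; abel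
      · rw [add_assoc, add_comm (Y i), ← this]; abel
    · dsimp only; split_ifs with h
      · rw [hc, h]; norm_num
      · rw [hd, (hc01 i).resolve_right h]; norm_num
    · dsimp only; split_ifs with h
      · rw [hd, h]; norm_num
      · rw [hc, (hc01 i).resolve_right h]; norm_num
  clear hc01 hc hd c hdis hAA hdA hnotone hA1 hAeq hXY hX hY X Y
  have hqS : ∀ i, Cfsg.classInner (q i) (q i) = 1 := fun i => IsSignedIrr.classInner_self (hqs i)
  have hrS : ∀ i, Cfsg.classInner (r i) (r i) = 1 := fun i => IsSignedIrr.classInner_self (hrs i)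
  have hrq : ∀ i j, Cfsg.classInner (r i) (q j) = 0 := fun i j => inner_swap_zero (hqr j i)
  have h1q : ∀ i, Cfsg.classInner one (q i) = 0 := fun i => inner_swap_zero (hq1 i)
  have h1r : ∀ i, Cfsg.classInner one (r i) = 0 := fun i => inner_swap_zero (hr1 i)
  have hdq : ∀ i, ∃ n : ℤ, q i 1 = n ∧ n ≠ 0 := fun i => signed_deg (hqs i)
  have hdr : ∀ i, r i 1 = -1 - q i 1 := fun i => by
    have h := congrFun (hAq i) 1
    rw [tau_one e (vA0 i)] at h
    simp only [Pi.add_apply, one] at h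
    linear_combination -h
  -- P and P'
  have hWex : ∃ W : G → ℂ, IsSignedIrr W ∧ Cfsg.classInner W one = 0 ∧
      (∀ i, Cfsg.classInner W (q i) = 0) ∧ (∀ i, Cfsg.classInner W (r i) = 0) ∧
      tau e vP = one + q 0 + q 1 + q 2 + W := by
    refine ⟨tau e vP - (one + q 0 + q 1 + q 2), ?_, ?_, fun i => ?_, fun i => ?_, by abel⟩
    · refine IsGeneralized.isIrr_or_neg (IsGeneralized.sub (tau_gen e isGen_vP)
        (IsGeneralized.add (IsGeneralized.add (IsGeneralized.add isGeneralized_one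
          (IsSignedIrr.isGeneralized (hqs 0))) (IsSignedIrr.isGeneralized (hqs 1)))
          (IsSignedIrr.isGeneralized (hqs 2)))) ?_
      have hq' : ∀ i, Cfsg.classInner (q i) (tau e vP) = ((1 : ℤ) : ℂ) := fun i =>
        inner_swap (by rw [hPq]; norm_num)
      simp [classInner_sub_left, classInner_sub_right, classInner_add_left, classInner_add_right,
        h11, hqS, hqq, hq1, h1q, hPq, hq', hP1, inner_swap hP1,
        tau_inner e hTI vP0 vP0 isGen_vP, ip_P.1]
      norm_num
    · simp [classInner_sub_left, classInner_add_left, h11, hq1, hP1]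
    · fin_cases i <;>
        simp [classInner_sub_left, classInner_add_left, hqS, hqq, h1q, hPq]
    · simp [classInner_sub_left, classInner_add_left, hqr, h1r, hPr]
  obtain ⟨W, hW, hW1, hWq, hWr, hPeq⟩ := hWex
  have hP1' : Cfsg.classInner (tau e vP') one = ((1 : ℤ) : ℂ) := by
    rw [tau_inner_one, ip_P.2.2.2.2]; norm_num
  have hcd : ∀ i, ∃ c : ℤ, Cfsg.classInner (tau e vP') (q i) = c ∧
      Cfsg.classInner (tau e vP') (r i) = ((1 - c : ℤ) : ℂ) := fun i => by
    obtain ⟨c, hc⟩ := IsGeneralized.exists_classInner_eq_int (tau_gen e isGen_vP')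
      (IsSignedIrr.isGeneralized (hqs i))
    refine ⟨c, hc, ?_⟩
    have h := congrArg (Cfsg.classInner (tau e vP')) (hAq i)
    rw [classInner_add_right, classInner_add_right, hP1', hc,
      tau_inner e hTI vP0' (vA0 i) (isGen_vA i), (ip_PA i).2] at h
    push_cast at h ⊢
    linear_combination -h
  choose c hc hd using hcd
  let F : Fin 7 → G → ℂ := ![q 0, r 0, q 1, r 1, q 2, r 2, one]
  have hF : ∀ i, IsSignedIrr (F i) := fun i => by fin_cases i <;> simp [F, hqs, hrs, hone]
  have horth : ∀ i j, i ≠ j → Cfsg.classInner (F i) (F j) = 0 := by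
    intro i j hij
    fin_cases i <;> fin_cases j <;>
      simp [F, hqq, hrr, hqr, hrq, hq1, hr1, h1q, h1r] at hij ⊢
  obtain ⟨hb, hnorm, hperp⟩ := bessel F hF horth (φ := tau e vP')
    ![c 0, 1 - c 0, c 1, 1 - c 1, c 2, 1 - c 2, 1]
    (fun i => by fin_cases i <;> simp [F, hc, hd, hP1']) (k := 5)
    (by rw [tau_inner e hTI vP0' vP0' isGen_vP', ip_P.2.1]; norm_num)
  simp only [Fin.sum_univ_seven, Matrix.cons_val] at hb
  have hc01 : ∀ i, c i = 0 ∨ c i = 1 := by
    have hpos : ∀ x : ℤ, 1 ≤ x * x + (1 - x) * (1 - x) := fun x => by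
      rcases le_or_gt x 0 with h | h <;> nlinarith
    have hle : ∀ x : ℤ, x * x + (1 - x) * (1 - x) ≤ 2 → x = 0 ∨ x = 1 := fun x h => by
      have h1 : -1 < x := by nlinarith
      have h2 : x < 2 := by nlinarith
      omega
    have h0 := hle (c 0) (by linarith [hpos (c 1), hpos (c 2)])
    have h1 := hle (c 1) (by linarith [hpos (c 0), hpos (c 2)])
    have h2 := hle (c 2) (by linarith [hpos (c 1), hpos (c 0)])
    intro i
    fin_cases i <;> assumption
  obtain ⟨k, hk⟩ := IsGeneralized.exists_classInner_eq_int (tau_gen e isGen_vP')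
    (IsSignedIrr.isGeneralized hW)
  have hsum : c 0 + c 1 + c 2 + k = 3 := by
    have h := congrArg (Cfsg.classInner (tau e vP')) hPeq
    rw [classInner_add_right, classInner_add_right, classInner_add_right, classInner_add_right,
      hP1', hc, hc, hc, hk, tau_inner e hTI vP0' vP0 isGen_vP] at h
    rw [show ip vP' vP = 432 by rw [← ip_P.2.2.1]; simp only [ip, mul_comm]] at h
    have h' : (4 : ℤ) = 1 + c 0 + c 1 + c 2 + k := by
      have : (4 : ℂ) = ((1 + c 0 + c 1 + c 2 + k : ℤ) : ℂ) := by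
        push_cast; push_cast at h; linear_combination h
      exact_mod_cast this
    omega
  have hW' : Cfsg.classInner (tau e vP' - ∑ i, ((![c 0, 1 - c 0, c 1, 1 - c 1, c 2, 1 - c 2, 1] i : ℤ) : ℂ) • F i) W
      = k := by
    rw [classInner_sub_left, hk, classInner_sum_left]
    simp [Fin.sum_univ_seven, F, classInner_smul_left, inner_swap_zero (hWq _),
      inner_swap_zero (hWr _), inner_swap_zero hW1]
  set W' := tau e vP' - ∑ i, ((![c 0, 1 - c 0, c 1, 1 - c 1, c 2, 1 - c 2, 1] i : ℤ) : ℂ) • F i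
    with hW'def
  have hsq : ∀ i, c i * c i + (1 - c i) * (1 - c i) = 1 := fun i => by
    rcases hc01 i with h | h <;> rw [h] <;> norm_num
  have hW'irr : IsSignedIrr W' := by
    refine IsGeneralized.isIrr_or_neg (IsGeneralized.sub (tau_gen e isGen_vP')
      (isGeneralized_sum _ fun i _ => IsGeneralized.intCast_smul
        (IsSignedIrr.isGeneralized (hF i)) _)) ?_
    rw [hnorm]
    simp only [Fin.sum_univ_seven, Matrix.cons_val]
    rw [show (5 : ℤ) - (c 0 * c 0 + (1 - c 0) * (1 - c 0) + c 1 * c 1 + (1 - c 1) * (1 - c 1)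
        + c 2 * c 2 + (1 - c 2) * (1 - c 2) + 1 * 1) = 1 by linarith [hsq 0, hsq 1, hsq 2]]
    norm_num
  have hall : (∀ i, c i = 1) ∧ k = 0 := by
    by_cases hk0 : k = 0
    · refine ⟨fun i => ?_, hk0⟩
      have := hc01 0; have := hc01 1; have := hc01 2
      fin_cases i <;> dsimp <;> omega
    · exfalso
      obtain ⟨s, hs, hWs, hsv⟩ := IsSignedIrr.eq_smul_of_classInner_ne hW'irr hW
        (by rw [hW']; exact_mod_cast hk0)
      rw [hW'] at hsv
      have hk1 : k = 1 := by
        rcases hs with rfl | rfl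
        · exact_mod_cast hsv
        · have : k = -1 := by exact_mod_cast hsv
          have := hc01 0; have := hc01 1; have := hc01 2; omega
      have hs1 : s = 1 := by rw [← hsv, hk1]; norm_num
      rw [hs1, one_smul] at hWs
      have h := congrFun hPeq 1
      rw [tau_one e vP0, hWs, hW'def] at h
      simp only [Pi.add_apply, Pi.sub_apply, tau_one e vP0', Finset.sum_apply, Pi.smul_apply,
        smul_eq_mul, Fin.sum_univ_seven, F, Matrix.cons_val, one, hdr] at h
      obtain ⟨n0, hn0, -⟩ := hdq 0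
      obtain ⟨n1, hn1, -⟩ := hdq 1
      obtain ⟨n2, hn2, -⟩ := hdq 2
      simp only [hn0, hn1, hn2] at h
      have h' : (2 * n0 + 1) * (1 - c 0) + (2 * n1 + 1) * (1 - c 1) + (2 * n2 + 1) * (1 - c 2)
          = 0 := by
        have : (((2 * n0 + 1) * (1 - c 0) + (2 * n1 + 1) * (1 - c 1) + (2 * n2 + 1) * (1 - c 2) : ℤ) : ℂ)
            = ((0 : ℤ) : ℂ) := by push_cast at h ⊢; linear_combination -h
        exact_mod_cast this
      rcases hc01 0 with e0 | e0 <;> rcases hc01 1 with e1 | e1 <;> rcases hc01 2 with e2 | e2 <;>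
        rw [e0, e1, e2] at h' <;> omega
  obtain ⟨hc1, rfl⟩ := hall
  have hW'one : Cfsg.classInner W' one = 0 := by simpa [F] using hperp 6
  have hW'q : ∀ i, Cfsg.classInner W' (q i) = 0 := fun i => by
    fin_cases i
    · simpa [F] using hperp 0
    · simpa [F] using hperp 2
    · simpa [F] using hperp 4
  have hW'r : ∀ i, Cfsg.classInner W' (r i) = 0 := fun i => by
    fin_cases i
    · simpa [F] using hperp 1
    · simpa [F] using hperp 3
    · simpa [F] using hperp 5
  have hWW : Cfsg.classInner W' W = 0 := by rw [hW']; simp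
  have hPeq' : tau e vP' = one + q 0 + q 1 + q 2 + W' := by
    rw [hW'def]
    simp [Fin.sum_univ_seven, F, hc1]
    abel
  -- the functions B
  have hB : ∀ i j l : Fin 3, i ≠ j → i ≠ l → j ≠ l →
      ∃ Z, IsSignedIrr Z ∧ tau e (vB i) = q j + q l + Z := by
    intro i j l hij hil hjl
    have hb1 : Cfsg.classInner (tau e (vB i)) one = 0 := by
      rw [tau_inner_one, ip_B1]; simp
    choose b hb' using fun m => IsGeneralized.exists_classInner_eq_int (tau_gen e (isGen_vB i))
      (IsSignedIrr.isGeneralized (hqs m))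
    have hbr : ∀ m, Cfsg.classInner (tau e (vB i)) (r m)
        = (((if i = m then 0 else 1) - b m : ℤ) : ℂ) := fun m => by
      have h := congrArg (Cfsg.classInner (tau e (vB i))) (hAq m)
      rw [classInner_add_right, classInner_add_right, hb1, hb',
        tau_inner e hTI (vB0 i) (vA0 m) (isGen_vA m), ip_BA] at h
      by_cases him : i = m <;> simp [him] at h ⊢ <;> linear_combination -h
    obtain ⟨ε, hε⟩ := IsGeneralized.exists_classInner_eq_int (tau_gen e (isGen_vB i))
      (IsSignedIrr.isGeneralized hW)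
    obtain ⟨ε', hε'⟩ := IsGeneralized.exists_classInner_eq_int (tau_gen e (isGen_vB i))
      (IsSignedIrr.isGeneralized hW'irr)
    have hs : b 0 + b 1 + b 2 + ε = 2 ∧ b 0 + b 1 + b 2 + ε' = 2 := by
      constructor
      · have h := congrArg (Cfsg.classInner (tau e (vB i))) hPeq
        rw [classInner_add_right, classInner_add_right, classInner_add_right, classInner_add_right,
          hb1, hb', hb', hb', hε, tau_inner e hTI (vB0 i) vP0 isGen_vP, (ip_BP i).1] at h
        have : ((b 0 + b 1 + b 2 + ε : ℤ) : ℂ) = ((2 : ℤ) : ℂ) := by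
          push_cast; push_cast at h; linear_combination -h
        exact_mod_cast this
      · have h := congrArg (Cfsg.classInner (tau e (vB i))) hPeq'
        rw [classInner_add_right, classInner_add_right, classInner_add_right, classInner_add_right,
          hb1, hb', hb', hb', hε', tau_inner e hTI (vB0 i) vP0' isGen_vP', (ip_BP i).2] at h
        have : ((b 0 + b 1 + b 2 + ε' : ℤ) : ℂ) = ((2 : ℤ) : ℂ) := by
          push_cast; push_cast at h; linear_combination -h
        exact_mod_cast this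
    let F' : Fin 8 → G → ℂ := ![q 0, r 0, q 1, r 1, q 2, r 2, W, W']
    have hF' : ∀ m, IsSignedIrr (F' m) := fun m => by
      fin_cases m <;> simp [F', hqs, hrs, hW, hW'irr]
    have horth' : ∀ m m', m ≠ m' → Cfsg.classInner (F' m) (F' m') = 0 := by
      intro m m' hm
      fin_cases m <;> fin_cases m' <;>
        simp [F', hqq, hrr, hqr, hrq, hWq, hWr, hW'q, hW'r, hWW, inner_swap_zero (hWq _),
          inner_swap_zero (hWr _), inner_swap_zero (hW'q _), inner_swap_zero (hW'r _),
          inner_swap_zero hWW] at hm ⊢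
    obtain ⟨hbd, hn, -⟩ := bessel F' hF' horth' (φ := tau e (vB i))
      ![b 0, (if i = 0 then 0 else 1) - b 0, b 1, (if i = 1 then 0 else 1) - b 1,
        b 2, (if i = 2 then 0 else 1) - b 2, ε, ε']
      (fun m => by fin_cases m <;> simp [F', hb', hbr, hε, hε']) (k := 3)
      (by rw [tau_inner e hTI (vB0 i) (vB0 i) (isGen_vB i), ip_B]; norm_num)
    simp only [Fin.sum_univ_eight, Matrix.cons_val] at hbd
    have hvals : ε = 0 ∧ ∀ m, b m = if i = m then 0 else 1 := by
      have hεε : ε' = ε := by omega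
      rw [hεε] at hbd
      have hpos : ∀ x : ℤ, 1 ≤ x * x + (1 - x) * (1 - x) := fun x => by
        rcases le_or_gt x 0 with h | h <;> nlinarith
      have hsum3 : b 0 + b 1 + b 2 + ε = 2 := hs.1
      fin_cases i <;> simp at hbd
      · have h0 : b 0 = 0 := by nlinarith [hpos (b 1), hpos (b 2), mul_self_nonneg ε]
        have he : ε = 0 := by nlinarith [hpos (b 1), hpos (b 2)]
        subst he
        have h1 : b 1 ≤ 1 := by rw [h0] at hbd; nlinarith [hpos (b 2)]
        have h2 : b 2 ≤ 1 := by rw [h0] at hbd; nlinarith [hpos (b 1)]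
        exact ⟨rfl, fun m => by fin_cases m <;> simp <;> omega⟩
      · have h0 : b 1 = 0 := by nlinarith [hpos (b 0), hpos (b 2), mul_self_nonneg ε]
        have he : ε = 0 := by nlinarith [hpos (b 0), hpos (b 2)]
        subst he
        have h1 : b 0 ≤ 1 := by rw [h0] at hbd; nlinarith [hpos (b 2)]
        have h2 : b 2 ≤ 1 := by rw [h0] at hbd; nlinarith [hpos (b 0)]
        exact ⟨rfl, fun m => by fin_cases m <;> simp <;> omega⟩
      · have h0 : b 2 = 0 := by nlinarith [hpos (b 1), hpos (b 0), mul_self_nonneg ε]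
        have he : ε = 0 := by nlinarith [hpos (b 1), hpos (b 0)]
        subst he
        have h1 : b 1 ≤ 1 := by rw [h0] at hbd; nlinarith [hpos (b 0)]
        have h2 : b 0 ≤ 1 := by rw [h0] at hbd; nlinarith [hpos (b 1)]
        exact ⟨rfl, fun m => by fin_cases m <;> simp <;> omega⟩
    refine ⟨tau e (vB i) - (q j + q l), ?_, by abel⟩
    refine IsGeneralized.isIrr_or_neg (IsGeneralized.sub (tau_gen e (isGen_vB i))
      (IsGeneralized.add (IsSignedIrr.isGeneralized (hqs j))
        (IsSignedIrr.isGeneralized (hqs l)))) ?_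
    have hj : Cfsg.classInner (tau e (vB i)) (q j) = ((1 : ℤ) : ℂ) := by
      rw [hb', hvals.2, if_neg hij]
    have hl : Cfsg.classInner (tau e (vB i)) (q l) = ((1 : ℤ) : ℂ) := by
      rw [hb', hvals.2, if_neg hil]
    simp [classInner_sub_left, classInner_sub_right, classInner_add_left, classInner_add_right,
      hqS, hqq j l hjl, hqq l j (Ne.symm hjl), hj, hl, inner_swap hj, inner_swap hl,
      tau_inner e hTI (vB0 i) (vB0 i) (isGen_vB i), ip_B]
    norm_num
  -- counting pairs of involutions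
  set g : ℂ := (Nat.card G : ℂ) with hgdef
  have hg : g ≠ 0 := by simp [hgdef]
  set n : ℂ := ((invols G).card : ℂ) with hn
  have iso : invSum one = n := invSum_one
  have pso : pairSum one = n ^ 2 := pairSum_one
  have hSr : ∀ i, invSum (r i) = -n - invSum (q i) := fun i => by
    have h := congrArg invSum (hAq i)
    rw [invSum_tau e (vA0 i), invSum_add, invSum_add, iso] at h
    linear_combination -h
  have eA : ∀ i, n ^ 2 + invSum (q i) ^ 2 / q i 1
      + (-n - invSum (q i)) ^ 2 / (-1 - q i 1) = 6 * g := fun i => by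
    have h := congrArg pairSum (hAq i)
    rw [pairSum_tau e hinv (vA0 i), pc_A, pairSum_add, pairSum_add, pso, pairSum_signed (hqs i),
      pairSum_signed (hrs i), hSr, hdr] at h
    rw [hgdef]; push_cast at h; linear_combination -h
  have eB : ∀ i j l : Fin 3, i ≠ j → i ≠ l → j ≠ l →
      q j 1 + q l 1 ≠ 0 ∧ invSum (q j) ^ 2 / q j 1 + invSum (q l) ^ 2 / q l 1
      + (-invSum (q j) - invSum (q l)) ^ 2 / (-q j 1 - q l 1) = 0 := by
    intro i j l hij hil hjl
    obtain ⟨Z, hZ, hBeq⟩ := hB i j l hij hil hjl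
    have hdZ : Z 1 = -q j 1 - q l 1 := by
      have h := congrFun hBeq 1
      rw [tau_one e (vB0 i)] at h
      simp only [Pi.add_apply] at h
      linear_combination -h
    have hSZ : invSum Z = -invSum (q j) - invSum (q l) := by
      have h := congrArg invSum hBeq
      rw [invSum_tau e (vB0 i), invSum_add, invSum_add] at h
      linear_combination -h
    refine ⟨fun h0 => IsSignedIrr.apply_one_ne_zero hZ (by rw [hdZ]; linear_combination -h0), ?_⟩
    have h := congrArg pairSum hBeq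
    rw [pairSum_tau e hinv (vB0 i), pc_B, pairSum_add, pairSum_add, pairSum_signed (hqs j),
      pairSum_signed (hqs l), pairSum_signed hZ, hSZ, hdZ] at h
    push_cast at h; linear_combination -h
  have hdW : W 1 = -1 - q 0 1 - q 1 1 - q 2 1 := by
    have h := congrFun hPeq 1
    rw [tau_one e vP0] at h
    simp only [Pi.add_apply, one] at h
    linear_combination -h
  have hSW : invSum W = -n - invSum (q 0) - invSum (q 1) - invSum (q 2) := by
    have h := congrArg invSum hPeq
    rw [invSum_tau e vP0, invSum_add, invSum_add, invSum_add, invSum_add, iso] at h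
    linear_combination -h
  have eP : n ^ 2 + invSum (q 0) ^ 2 / q 0 1 + invSum (q 1) ^ 2 / q 1 1 + invSum (q 2) ^ 2 / q 2 1
      + (-n - invSum (q 0) - invSum (q 1) - invSum (q 2)) ^ 2
        / (-1 - q 0 1 - q 1 1 - q 2 1) = 9 * g := by
    have h := congrArg pairSum hPeq
    rw [pairSum_tau e hinv vP0, pc_P, pairSum_add, pairSum_add, pairSum_add, pairSum_add, pso,
      pairSum_signed (hqs 0), pairSum_signed (hqs 1), pairSum_signed (hqs 2), pairSum_signed hW,
      hSW, hdW] at h
    rw [hgdef]; push_cast at h; linear_combination -h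
  have hne : ∀ i, q i 1 ≠ 0 := fun i => IsSignedIrr.apply_one_ne_zero (hqs i)
  have hne' : ∀ i, 1 + q i 1 ≠ 0 := fun i h0 =>
    IsSignedIrr.apply_one_ne_zero (hrs i) (by rw [hdr]; linear_combination -h0)
  obtain ⟨s₁, B₁⟩ := eB 1 2 0 (by decide) (by decide) (by decide)
  obtain ⟨s₂, B₂⟩ := eB 2 0 1 (by decide) (by decide) (by decide)
  obtain ⟨h0, h1, h2⟩ := degree_eq_one hg (hne 0) (hne 1) (hne 2) (hne' 0) (hne' 1) (hne' 2) s₁ s₂
    (fun h => IsSignedIrr.apply_one_ne_zero hW (by rw [hdW]; linear_combination -h))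
    (eA 0) (eA 1) (eA 2) B₁ B₂ eP
  have hdeg : ∀ i, q i 1 = 1 := fun i => by fin_cases i <;> assumption
  have hirr : ∀ i, Cfsg.IsIrrCharacter G (q i) := fun i => by
    rcases hqs i with h | h
    · exact h
    · obtain ⟨d, hd0, hd⟩ := IsIrrCharacter.exists_degree h
      rw [Pi.neg_apply, hdeg] at hd
      have : ((d : ℤ) : ℂ) = ((-1 : ℤ) : ℂ) := by push_cast; exact hd.symm
      have : (d : ℤ) = -1 := by exact_mod_cast this
      omega
  choose φ hφ using fun i => IsCharacter.exists_hom (IsIrrCharacter.isCharacter (hirr i)) (hdeg i)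
  refine ⟨φ, fun i j => ?_⟩
  rw [show (fun g => (φ j g : ℂ)) = q j from (hφ j).symm, hAq, classInner_add_left,
    classInner_add_left, h1q, hrq]
  by_cases hij : i = j
  · subst hij; simp [hqS]
  · simp [hij, hqq i j hij]

end CfsgLib.ThreeCubed
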