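import Cfsg.Agent.Char.Signed
import Cfsg.Agent.Char.ClassProducts

/-!
# Sums over pairs of involutions, and orthonormal families of signed irreducible characters
-/

set_option autoImplicit false

namespace CfsgLib.ThreeCubed

open CfsgLib.Char
open scoped ComplexConjugate

universe u

variable {G : Type u} [Group G] [Fintype G]

/-- The involutions of `G`. -/
noncomputable def invols (G : Type u) [Group G] [Fintype G] : Finset G := by
  classical exact Finset.univ.filter (fun x => x * x = 1 ∧ x ≠ 1)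

theorem mem_invols {x : G} : x ∈ invols G ↔ x * x = 1 ∧ x ≠ 1 := by
  classical simp [invols]

/-- Sum of a function over the involutions. -/
noncomputable def invSum (β : G → ℂ) : ℂ := ∑ x ∈ invols G, β x

/-- Sum of a function over the products of two involutions. -/
noncomputable def pairSum (β : G → ℂ) : ℂ := ∑ x ∈ invols G, ∑ y ∈ invols G, β (x * y)

theorem invSum_add (a b : G → ℂ) : invSum (a + b) = invSum a + invSum b := by
  simp [invSum, Finset.sum_add_distrib]

theorem pairSum_add (a b : G → ℂ) : pairSum (a + b) = pairSum a + pairSum b := by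
  simp [pairSum, Finset.sum_add_distrib]

theorem invSum_one : invSum (fun _ : G => (1 : ℂ)) = ((invols G).card : ℂ) := by
  simp [invSum]

theorem pairSum_one : pairSum (fun _ : G => (1 : ℂ)) = ((invols G).card : ℂ) ^ 2 := by
  simp [pairSum, sq]

theorem pairSum_irr {χ : G → ℂ} (hχ : Cfsg.IsIrrCharacter G χ) :
    pairSum χ = invSum χ ^ 2 / χ 1 := by
  classical
  have hθ : Cfsg.IsClassFunction G (fun x => if x ∈ invols G then (1 : ℂ) else 0) := fun g h => by
    refine if_congr ?_ rfl rfl
    have e : h * g * h⁻¹ * (h * g * h⁻¹) = h * (g * g) * h⁻¹ := by group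
    rw [mem_invols, mem_invols, e, conj_eq_one_iff, ne_eq, conj_eq_one_iff]
  have key : ∀ y : G, ∑ x ∈ invols G, χ (x * y) = invSum χ * χ y / χ 1 := fun y => by
    have h := IsIrrCharacter.sum_mul_apply_mul hχ hθ y
    simp only [ite_mul, one_mul, zero_mul, Finset.sum_ite_mem, Finset.univ_inter] at h
    exact h
  rw [pairSum, Finset.sum_comm, Finset.sum_congr rfl fun y _ => key y, ← Finset.sum_div,
    ← Finset.mul_sum, ← invSum, ← sq]

theorem pairSum_signed {ψ : G → ℂ} (hψ : IsSignedIrr ψ) : pairSum ψ = invSum ψ ^ 2 / ψ 1 := by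
  rcases hψ with h | h
  · exact pairSum_irr h
  · have := pairSum_irr h
    have e1 : pairSum (-ψ) = -pairSum ψ := by simp [pairSum]
    have e2 : invSum (-ψ) = -invSum ψ := by simp [invSum]
    rw [e1, e2, neg_sq, Pi.neg_apply, div_neg] at this
    exact neg_inj.1 this

theorem IsSignedIrr.isGeneralized {ψ : G → ℂ} (h : IsSignedIrr ψ) :
    Cfsg.IsGeneralizedCharacter G ψ := by
  rcases h with h | h
  · exact IsIrrCharacter.isGeneralized h
  · simpa using IsGeneralized.neg (IsIrrCharacter.isGeneralized h)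

/-- A generalized character of norm two is a sum of two orthogonal signed irreducibles. -/
theorem exists_two {φ : G → ℂ} (hφ : Cfsg.IsGeneralizedCharacter G φ)
    (h2 : Cfsg.classInner φ φ = 2) :
    ∃ X Y : G → ℂ, IsSignedIrr X ∧ IsSignedIrr Y ∧ Cfsg.classInner X Y = 0 ∧ φ = X + Y := by
  classical
  have hcf := IsGeneralized.isClassFunction hφ
  obtain ⟨χ, hχ, hne⟩ : ∃ χ, Cfsg.IsIrrCharacter G χ ∧ Cfsg.classInner φ χ ≠ 0 := by
    by_contra! h
    have := eq_zero_of_classInner_eq_zero hcf h
    rw [this, classInner_zero_left] at h2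
    norm_num at h2
  obtain ⟨n, hn⟩ := IsGeneralized.exists_classInner_eq_int hφ (IsIrrCharacter.isGeneralized hχ)
  have hn' : Cfsg.classInner χ φ = n := by rw [← classInner_conj, hn]; simp
  have hg : Cfsg.IsGeneralizedCharacter G (φ - (n : ℂ) • χ) :=
    IsGeneralized.sub hφ (IsGeneralized.intCast_smul (IsIrrCharacter.isGeneralized hχ) n)
  have hr : Cfsg.classInner (φ - (n : ℂ) • χ) (φ - (n : ℂ) • χ) = 2 - (n : ℂ) * n := by
    simp only [classInner_sub_left, classInner_sub_right, classInner_smul_left,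
      classInner_smul_right, h2, hn, hn', IsIrrCharacter.classInner_self hχ, map_intCast]
    ring
  have hnn : n * n ≤ 2 := by
    have h0 := hr
    rw [classInner_self] at h0
    have : (0 : ℝ) ≤ 2 - (n : ℝ) * n := by
      have e : ((Nat.card G : ℝ)⁻¹ * ∑ g : G, ‖(φ - (n : ℂ) • χ) g‖ ^ 2) = 2 - (n : ℝ) * n := by
        exact_mod_cast h0
      rw [← e]; positivity
    exact_mod_cast (by linarith : (n : ℝ) * n ≤ 2)
  have hn0 : n ≠ 0 := fun h => hne (by rw [hn, h]; simp)
  have hn1 : n = 1 ∨ n = -1 := by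
    have h1 : n ≤ 1 := by nlinarith
    have h2' : -1 ≤ n := by nlinarith
    omega
  have hnsq : (n : ℂ) * n = 1 := by rcases hn1 with rfl | rfl <;> norm_num
  refine ⟨(n : ℂ) • χ, φ - (n : ℂ) • χ, ?_, ?_, ?_, by abel⟩
  · rcases hn1 with rfl | rfl
    · left; simpa using hχ
    · right; simpa using hχ
  · exact IsGeneralized.isIrr_or_neg hg (by rw [hr, hnsq]; norm_num)
  · simp only [classInner_sub_right, classInner_smul_left, classInner_smul_right, hn',
      IsIrrCharacter.classInner_self hχ, map_intCast]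
    ring

/-- Bessel's inequality and the norm of the remainder. -/
theorem bessel {n : ℕ} (X : Fin n → G → ℂ) (hX : ∀ i, IsSignedIrr (X i))
    (horth : ∀ i j, i ≠ j → Cfsg.classInner (X i) (X j) = 0) {φ : G → ℂ} (c : Fin n → ℤ)
    (hc : ∀ i, Cfsg.classInner φ (X i) = c i) {k : ℤ} (hk : Cfsg.classInner φ φ = k) :
    ∑ i, c i * c i ≤ k ∧
      Cfsg.classInner (φ - ∑ i, (c i : ℂ) • X i) (φ - ∑ i, (c i : ℂ) • X i)
        = ((k - ∑ i, c i * c i : ℤ) : ℂ) ∧
      ∀ j, Cfsg.classInner (φ - ∑ i, (c i : ℂ) • X i) (X j) = 0 := by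
  classical
  have hc' : ∀ i, Cfsg.classInner (X i) φ = c i := fun i => by
    rw [← classInner_conj, hc]; simp
  have hone : ∀ i j, Cfsg.classInner (X i) (X j) = if i = j then 1 else 0 := fun i j => by
    split_ifs with h
    · subst h; exact IsSignedIrr.classInner_self (hX i)
    · exact horth i j h
  have h1 : Cfsg.classInner (∑ i, (c i : ℂ) • X i) φ = ((∑ i, c i * c i : ℤ) : ℂ) := by
    simp [classInner_sum_left, classInner_smul_left, hc']
  have h2 : ∀ j, Cfsg.classInner (∑ i, (c i : ℂ) • X i) (X j) = c j := fun j => by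
    simp [classInner_sum_left, classInner_smul_left, hone]
  have h3 : ∀ j, Cfsg.classInner (φ - ∑ i, (c i : ℂ) • X i) (X j) = 0 := fun j => by
    rw [classInner_sub_left, hc, h2, sub_self]
  have h4 : Cfsg.classInner (φ - ∑ i, (c i : ℂ) • X i) (φ - ∑ i, (c i : ℂ) • X i)
      = ((k - ∑ i, c i * c i : ℤ) : ℂ) := by
    rw [classInner_sub_right, classInner_sum_right]
    simp [classInner_smul_right, h3]
    rw [classInner_sub_left, hk, h1]
    push_cast; ring
  refine ⟨?_, h4, h3⟩
  have h5 := h4
  rw [classInner_self] at h5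
  have e : ((Nat.card G : ℝ)⁻¹ * ∑ g : G, ‖(φ - ∑ i, (c i : ℂ) • X i) g‖ ^ 2)
      = ((k - ∑ i, c i * c i : ℤ) : ℝ) := by
    exact_mod_cast h5
  have : (0 : ℝ) ≤ ((k - ∑ i, c i * c i : ℤ) : ℝ) := by rw [← e]; positivity
  have : (0 : ℤ) ≤ k - ∑ i, c i * c i := by exact_mod_cast this
  omega

end CfsgLib.ThreeCubed
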