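import Cfsg.Agent.Char.Generalized
import Mathlib.GroupTheory.Perm.Sign
import Mathlib.RepresentationTheory.Character

/-!
# The group `(S₃ × S₃ × S₃)⁺` of order 108 and some of its generalized characters
-/

set_option autoImplicit false
set_option synthInstance.maxSize 4000
set_option synthInstance.maxHeartbeats 400000

namespace CfsgLib.ThreeCubed

abbrev P3 := Equiv.Perm (Fin 3)

/-- The product of the three signs. -/
def sgn3 : P3 × P3 × P3 →* ℤˣ :=
  MonoidHom.mk' (fun k => Equiv.Perm.sign k.1 * Equiv.Perm.sign k.2.1 * Equiv.Perm.sign k.2.2)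
    (fun a b => by
      simp only [Prod.fst_mul, Prod.snd_mul, map_mul]
      ac_rfl)

/-- The model group. -/
abbrev M : Type := sgn3.ker

/-- The `i`-th component. -/
def comp (i : Fin 3) : M →* P3 :=
  (![MonoidHom.fst P3 (P3 × P3), (MonoidHom.fst P3 P3).comp (MonoidHom.snd P3 (P3 × P3)),
    (MonoidHom.snd P3 P3).comp (MonoidHom.snd P3 (P3 × P3))] i).comp sgn3.ker.subtype

/-- Sign of the `i`-th component. -/
def lam (i : Fin 3) (k : M) : ℤ := (Equiv.Perm.sign (comp i k) : ℤˣ)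

/-- The permutation character of the `i`-th component, minus one. -/
def fx (i : Fin 3) (k : M) : ℤ :=
  (if comp i k 0 = 0 then 1 else 0) + (if comp i k 1 = 1 then 1 else 0)
    + (if comp i k 2 = 2 then 1 else 0) - 1

def vA (i : Fin 3) (k : M) : ℤ := 1 + lam i k - fx i k

def vB (i : Fin 3) (k : M) : ℤ := lam (i + 1) k + lam (i + 2) k - fx i k * lam (i + 1) k

def vP (k : M) : ℤ := 1 + lam 0 k + lam 1 k + lam 2 k - fx 0 k * fx 1 k

def vP' (k : M) : ℤ := 1 + lam 0 k + lam 1 k + lam 2 k - fx 0 k * fx 2 k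

/-- Unnormalised inner product. -/
def ip (f g : M → ℤ) : ℤ := ∑ k, f k * g k

/-- Unnormalised sum over products of two involutions. -/
def pc (f : M → ℤ) : ℤ :=
  ∑ x ∈ Finset.univ.filter (fun x : M => x * x = 1 ∧ x ≠ 1),
    ∑ y ∈ Finset.univ.filter (fun x : M => x * x = 1 ∧ x ≠ 1), f (x * y)

theorem card_M : Fintype.card M = 108 := by decide +kernel

theorem vanish : ∀ k : M, k * k = 1 →
    (∀ i, vA i k = 0) ∧ (∀ i, vB i k = 0) ∧ vP k = 0 ∧ vP' k = 0 := by decide +kernel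

theorem ip_A : ∀ i j : Fin 3, ip (vA i) (vA j) = if i = j then 324 else 108 := by decide +kernel
theorem ip_A1 : ∀ i : Fin 3, ip (vA i) (fun _ => 1) = 108 := by decide +kernel
theorem ip_B : ∀ i : Fin 3, ip (vB i) (vB i) = 324 := by decide +kernel
theorem ip_B1 : ∀ i : Fin 3, ip (vB i) (fun _ => 1) = 0 := by decide +kernel
theorem ip_BA : ∀ i j : Fin 3, ip (vB i) (vA j) = if i = j then 0 else 108 := by decide +kernel
theorem ip_BP : ∀ i : Fin 3, ip (vB i) vP = 216 ∧ ip (vB i) vP' = 216 := by decide +kernel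
theorem ip_P : ip vP vP = 540 ∧ ip vP' vP' = 540 ∧ ip vP vP' = 432 ∧
    ip vP (fun _ => 1) = 108 ∧ ip vP' (fun _ => 1) = 108 := by decide +kernel
theorem ip_PA : ∀ i : Fin 3, ip vP (vA i) = 216 ∧ ip vP' (vA i) = 216 := by decide +kernel
theorem pc_A : ∀ i : Fin 3, pc (vA i) = 648 := by decide +kernel
theorem pc_B : ∀ i : Fin 3, pc (vB i) = 0 := by decide +kernel
theorem pc_P : pc vP = 972 := by decide +kernel

theorem cube_comm : ∀ a : M, a ^ 3 = 1 → ∀ b : M, b ^ 3 = 1 → a * b = b * a := by decide +kernel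
theorem card_cube : (Finset.univ.filter (fun a : M => a ^ 3 = 1)).card = 27 := by decide +kernel
theorem sq_cube : ∀ k : M, (k * k) ^ 3 = 1 := by decide +kernel
theorem pow27 : ∀ k : M, k ^ 3 ≠ 1 → k ^ 27 ≠ 1 := by decide +kernel
theorem mul_self_of_cube : ∀ k : M, k ^ 3 = 1 → k * k = 1 → k = 1 := by decide +kernel

/-- The two generating involutions of a complement of the rotations. -/
def s1 : M := ⟨(1, Equiv.swap 0 1, Equiv.swap 0 1), by decide⟩
def s2 : M := ⟨(Equiv.swap 0 1, 1, Equiv.swap 0 1), by decide⟩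
def s3 : M := ⟨(Equiv.swap 0 1, Equiv.swap 0 1, 1), by decide⟩

theorem gen_cube : ∀ k : M, k ^ 3 = 1 → ∃ a : M, a ^ 3 = 1 ∧ (a⁻¹ * k) ^ 3 = 1 ∧
    s2 * a * s2 = a⁻¹ ∧ s1 * (a⁻¹ * k) * s1 = (a⁻¹ * k)⁻¹ := by decide +kernel
theorem cosets : ∀ k : M, ∃ t : M, t ^ 3 = 1 ∧ (k = t ∨ k = t * s1 ∨ k = t * s2 ∨ k = t * s3) := by
  decide +kernel
theorem s_rel : s1 * s1 = 1 ∧ s2 * s2 = 1 ∧ s1 * s2 = s3 ∧ s1 ≠ 1 ∧ s2 ≠ 1 ∧ s3 ≠ 1 := by decide +kernel

open CfsgLib.Char in
theorem isGen_lam (i : Fin 3) : Cfsg.IsGeneralizedCharacter M (fun k => (lam i k : ℂ)) := by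
  refine IsCharacter.isGeneralized ?_
  have h := isCharacter_ofHom ((Units.map (Int.castRingHom ℂ).toMonoidHom).comp
    (Equiv.Perm.sign.comp (comp i)))
  exact h

open CfsgLib.Char in
theorem isGen_fx (i : Fin 3) : Cfsg.IsGeneralizedCharacter M (fun k => (fx i k : ℂ)) := by
  have h1 : Cfsg.IsGeneralizedCharacter P3
      (fun s => (((if s 0 = 0 then 1 else 0) + (if s 1 = 1 then 1 else 0)
        + (if s 2 = 2 then 1 else 0) : ℤ) : ℂ)) := by
    have h := isCharacter_character (Representation.ofMulAction ℂ P3 (Fin 3))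
    refine IsCharacter.isGeneralized ?_
    convert h using 1
    funext s
    rw [Representation.character, LinearMap.trace_eq_matrix_trace ℂ (MonoidAlgebra.basis (Fin 3) ℂ),
      Matrix.trace, Fin.sum_univ_three]
    simp [LinearMap.toMatrix_apply, MonoidAlgebra.basis, Finsupp.single_apply]
  have h2 := IsGeneralized.sub (IsGeneralized.comp h1 (comp i)) (isGeneralized_one (G := M))
  convert h2 using 1
  funext k
  simp [fx]

end CfsgLib.ThreeCubed

namespace CfsgLib.ThreeCubed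

theorem ip_A_lam : ∀ i m : Fin 3, ip (vA i) (lam m) = if i = m then 108 else 0 := by decide +kernel
theorem lam_cube : ∀ k : M, k ^ 3 = 1 → ∀ m, lam m k = 1 := by decide +kernel
theorem cube_of_lam : ∀ k : M, (∀ m, lam m k = 1) → k ^ 3 = 1 := by decide +kernel
theorem lam_mul : ∀ m, ∀ a b : M, lam m (a * b) = lam m a * lam m b := fun m a b => by
  simp [lam]
theorem lam_s : (lam 0 s1, lam 0 s2) = (1, -1) ∧ (lam 1 s1, lam 1 s2) = (-1, 1) ∧
    (lam 2 s1, lam 2 s2) = (-1, -1) := by decide +kernel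

theorem isGen_of_eq {f : M → ℤ} {φ : M → ℂ} (hφ : Cfsg.IsGeneralizedCharacter M φ)
    (h : ∀ k, φ k = f k) : Cfsg.IsGeneralizedCharacter M (fun k => (f k : ℂ)) := by
  rwa [show (fun k => (f k : ℂ)) = φ from funext fun k => (h k).symm]

open CfsgLib.Char in
theorem isGen_vA (i : Fin 3) : Cfsg.IsGeneralizedCharacter M (fun k => (vA i k : ℂ)) :=
  isGen_of_eq (IsGeneralized.sub (IsGeneralized.add isGeneralized_one (isGen_lam i)) (isGen_fx i))
    fun k => by simp [vA]

open CfsgLib.Char in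
theorem isGen_vB (i : Fin 3) : Cfsg.IsGeneralizedCharacter M (fun k => (vB i k : ℂ)) :=
  isGen_of_eq (IsGeneralized.sub (IsGeneralized.add (isGen_lam (i + 1)) (isGen_lam (i + 2)))
    (IsGeneralized.mul (isGen_fx i) (isGen_lam (i + 1)))) fun k => by simp [vB]

open CfsgLib.Char in
theorem isGen_vP : Cfsg.IsGeneralizedCharacter M (fun k => (vP k : ℂ)) :=
  isGen_of_eq (IsGeneralized.sub (IsGeneralized.add (IsGeneralized.add (IsGeneralized.add
    isGeneralized_one (isGen_lam 0)) (isGen_lam 1)) (isGen_lam 2))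
    (IsGeneralized.mul (isGen_fx 0) (isGen_fx 1))) fun k => by simp [vP]

open CfsgLib.Char in
theorem isGen_vP' : Cfsg.IsGeneralizedCharacter M (fun k => (vP' k : ℂ)) :=
  isGen_of_eq (IsGeneralized.sub (IsGeneralized.add (IsGeneralized.add (IsGeneralized.add
    isGeneralized_one (isGen_lam 0)) (isGen_lam 1)) (isGen_lam 2))
    (IsGeneralized.mul (isGen_fx 0) (isGen_fx 2))) fun k => by simp [vP']

end CfsgLib.ThreeCubed
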