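import Cfsg.Agent.ThreeCubed.General
import Cfsg.Agent.ThreeCubed.Model
import Cfsg.Agent.Char.TI

/-!
# Moving virtual characters of the model group to a group in which it is suitably embedded
-/

set_option autoImplicit false

namespace CfsgLib.ThreeCubed

open CfsgLib.Char
open scoped ComplexConjugate

universe u

variable {G : Type u} [Group G] {H : Subgroup G}

/-- The special elements of `H`. -/
def DSet (H : Subgroup G) : Set G := {g | g ∈ H ∧ g * g ≠ 1}

/-- A function on the model group, read on `H`. -/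
noncomputable def liftH (e : M ≃* H) (f : M → ℤ) : H → ℂ := fun h => (f (e.symm h) : ℂ)

/-- The induced function. -/
noncomputable def tau [Fintype G] (e : M ≃* H) (f : M → ℤ) : G → ℂ :=
  Cfsg.indFun H (liftH e f)

variable (e : M ≃* H)

theorem sum_H [Fintype H] {A : Type*} [AddCommMonoid A] (F : H → A) :
    ∑ h, F h = ∑ k : M, F (e k) :=
  (Fintype.sum_equiv e.toEquiv (fun k => F (e k)) F fun _ => rfl).symm

include e in
theorem natCard_H : Nat.card H = 108 := by
  rw [← Nat.card_congr e.toEquiv, Nat.card_eq_fintype_card, card_M]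

theorem classInner_liftH [Fintype H] (f g : M → ℤ) :
    Cfsg.classInner (liftH e f) (liftH e g) = (ip f g : ℂ) / 108 := by
  rw [classInner_def, sum_H e, natCard_H e, ip]
  simp [liftH, div_eq_inv_mul]

variable [Fintype G]

theorem liftH_gen {f : M → ℤ} (hg : Cfsg.IsGeneralizedCharacter M (fun k => (f k : ℂ))) :
    Cfsg.IsGeneralizedCharacter H (liftH e f) :=
  IsGeneralized.comp hg e.symm.toMonoidHom

theorem tau_gen {f : M → ℤ} (hg : Cfsg.IsGeneralizedCharacter M (fun k => (f k : ℂ))) :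
    Cfsg.IsGeneralizedCharacter G (tau e f) :=
  IsGeneralized.indFun (liftH_gen e hg)

theorem mem_DSet {h : H} : (h : G) ∈ DSet H ↔ e.symm h * e.symm h ≠ 1 := by
  have : (h : G) * h = 1 ↔ h * h = 1 := by rw [← Subgroup.coe_mul, OneMemClass.coe_eq_one]
  rw [← map_mul, MulEquiv.map_ne_one_iff]
  exact ⟨fun hh => fun h1 => hh.2 (this.2 h1), fun hh => ⟨h.2, fun h1 => hh (this.1 h1)⟩⟩

theorem liftH_vanish {f : M → ℤ} (hf : ∀ k, k * k = 1 → f k = 0) (h : H) (hh : (h : G) ∉ DSet H) :
    liftH e f h = 0 := by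
  rw [mem_DSet e, not_not] at hh
  rw [liftH, hf _ hh, Int.cast_zero]

theorem tau_inner [Fintype H]
    (hTI : ∀ g : G, g ∉ H → ∀ t ∈ DSet H, g * t * g⁻¹ ∈ DSet H → t = 1)
    {f g : M → ℤ} (hf : ∀ k, k * k = 1 → f k = 0) (hg : ∀ k, k * k = 1 → g k = 0)
    (hgen : Cfsg.IsGeneralizedCharacter M (fun k => (g k : ℂ))) :
    Cfsg.classInner (tau e f) (tau e g) = (ip f g : ℂ) / 108 := by
  rw [tau, tau, classInner_indFun_TI hTI (IsGeneralized.isClassFunction (liftH_gen e hgen))
    (liftH_vanish e hf) (liftH_vanish e hg), classInner_liftH]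
  rw [liftH, map_one, hf 1 (mul_one 1), Int.cast_zero]

theorem tau_inner_fun [Fintype H] {f g : M → ℤ} {χ : G → ℂ} (hχ : Cfsg.IsClassFunction G χ)
    (h : ∀ k, χ (e k : G) = g k) :
    Cfsg.classInner (tau e f) χ = (ip f g : ℂ) / 108 := by
  rw [tau, classInner_indFun _ hχ, ← classInner_liftH e]
  congr 1
  funext x
  simp [liftH, ← h]

theorem tau_inner_one [Fintype H] (f : M → ℤ) :
    Cfsg.classInner (tau e f) (fun _ => (1 : ℂ)) = (ip f (fun _ => 1) : ℂ) / 108 :=
  tau_inner_fun e (g := fun _ => 1) (fun _ _ => rfl) (fun _ => by simp)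

theorem tau_one {f : M → ℤ} (hf : ∀ k, k * k = 1 → f k = 0) : tau e f 1 = 0 := by
  rw [tau, indFun_one, liftH, map_one, hf 1 (mul_one 1)]; simp

theorem ext_ne_zero {f : M → ℤ} (hf : ∀ k, k * k = 1 → f k = 0) {g : G}
    (h : Cfsg.extendByZero H (liftH e f) g ≠ 0) : g ∈ DSet H := by
  by_cases hg : g ∈ H
  · by_contra hD
    exact h (by rw [extendByZero_of_mem _ hg]; exact liftH_vanish e hf ⟨g, hg⟩ hD)
  · exact absurd (extendByZero_of_not_mem _ hg) h

theorem invSum_tau {f : M → ℤ} (hf : ∀ k, k * k = 1 → f k = 0) : invSum (tau e f) = 0 := by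
  refine Finset.sum_eq_zero fun x hx => ?_
  rw [tau, indFun_def, Finset.sum_eq_zero fun z _ => ?_, mul_zero]
  by_contra h
  have hD := ext_ne_zero e hf h
  apply hD.2
  have e1 : z⁻¹ * x * z * (z⁻¹ * x * z) = z⁻¹ * (x * x) * z := by group
  rw [e1, (mem_invols.1 hx).1]; group

theorem conj_invols (z : G) {x : G} : z⁻¹ * x * z ∈ invols G ↔ x ∈ invols G := by
  have e1 : z⁻¹ * x * z * (z⁻¹ * x * z) = z⁻¹ * (x * x) * z⁻¹⁻¹ := by group
  have e2 : z⁻¹ * x * z = z⁻¹ * x * z⁻¹⁻¹ := by group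
  rw [mem_invols, mem_invols, e1, conj_eq_one_iff, e2, ne_eq, conj_eq_one_iff]

theorem pairSum_tau
    (hinv : ∀ x : G, x * x = 1 → ∀ d ∈ DSet H, x * d * x⁻¹ = d⁻¹ → x ∈ H)
    {f : M → ℤ} (hf : ∀ k, k * k = 1 → f k = 0) :
    pairSum (tau e f) = (Nat.card G : ℂ) / 108 * (pc f : ℂ) := by
  classical
  set F := Cfsg.extendByZero H (liftH e f) with hF
  have key : ∀ z : G, ∑ x ∈ invols G, ∑ y ∈ invols G, F (z⁻¹ * (x * y) * z)
      = ∑ x ∈ invols G, ∑ y ∈ invols G, F (x * y) := by
    intro z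
    refine Finset.sum_equiv (MulAut.conj z⁻¹).toEquiv (fun x => ?_) fun x _ => ?_
    · simp [MulAut.conj_apply, conj_invols]
    refine Finset.sum_equiv (MulAut.conj z⁻¹).toEquiv (fun x => ?_) fun y _ => ?_
    · simp [MulAut.conj_apply, conj_invols]
    simp [mul_assoc]
  have hin : ∑ x ∈ invols G, ∑ y ∈ invols G, F (x * y) = (pc f : ℂ) := by
    set J := (Finset.univ.filter (fun x : M => x * x = 1 ∧ x ≠ 1)).map
      ⟨fun k => (e k : G), Subtype.val_injective.comp e.injective⟩ with hJ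
    have hJmem : ∀ x, x ∈ invols G → x ∈ H → x ∈ J := by
      intro x hx hxH
      rw [hJ, Finset.mem_map]
      refine ⟨e.symm ⟨x, hxH⟩, ?_, by simp⟩
      simp only [Finset.mem_filter, Finset.mem_univ, true_and]
      rw [← map_mul, MulEquiv.map_ne_one_iff, MulEquiv.map_eq_one_iff]
      exact ⟨Subtype.ext (mem_invols.1 hx).1, fun h => (mem_invols.1 hx).2 (congrArg Subtype.val h)⟩
    have hJsub : J ⊆ invols G := by
      intro x hx
      simp only [hJ, Finset.mem_map, Finset.mem_filter, Finset.mem_univ, true_and,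
        Function.Embedding.coeFn_mk] at hx
      obtain ⟨k, ⟨h1, h2⟩, rfl⟩ := hx
      rw [mem_invols, ← Subgroup.coe_mul, ← map_mul, h1]
      simpa using h2
    have hside : ∀ x ∈ invols G, ∀ y ∈ invols G, F (x * y) ≠ 0 → x ∈ J ∧ y ∈ J := by
      intro x hx y hy hne
      have hD := ext_ne_zero e hf hne
      have hx1 := (mem_invols.1 hx).1
      have hy1 := (mem_invols.1 hy).1
      have hxH : x ∈ H := by
        refine hinv x hx1 _ hD ?_
        rw [mul_inv_rev, inv_eq_of_mul_eq_one_right hy1, inv_eq_of_mul_eq_one_right hx1,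
          ← mul_assoc x x y, hx1, one_mul]
      refine ⟨hJmem x hx hxH, hJmem y hy ?_⟩
      have := H.mul_mem hxH hD.1
      rwa [← mul_assoc, hx1, one_mul] at this
    rw [← Finset.sum_subset hJsub]
    · rw [hJ, Finset.sum_map, pc]
      push_cast
      refine Finset.sum_congr rfl fun a ha => ?_
      rw [← Finset.sum_subset hJsub]
      · rw [hJ, Finset.sum_map]
        refine Finset.sum_congr rfl fun b _ => ?_
        rw [hF, Function.Embedding.coeFn_mk, ← Subgroup.coe_mul, ← map_mul, extendByZero_apply,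
          liftH, MulEquiv.symm_apply_apply]
      · intro y hy hyJ
        by_contra hne
        exact hyJ (hside _ (hJsub (Finset.mem_map_of_mem _ ha)) y hy hne).2
    · intro x hx hxJ
      refine Finset.sum_eq_zero fun y hy => ?_
      by_contra hne
      exact hxJ (hside x hx y hy hne).1
  have : pairSum (tau e f) =
      (108 : ℂ)⁻¹ * ∑ z : G, ∑ x ∈ invols G, ∑ y ∈ invols G, F (z⁻¹ * (x * y) * z) := by
    simp only [pairSum, tau, indFun_def, natCard_H e, ← Finset.mul_sum]
    push_cast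
    congr 1
    rw [Finset.sum_comm (s := (Finset.univ : Finset G))]
    exact Finset.sum_congr rfl fun x _ => Finset.sum_comm
  rw [this, Finset.sum_congr rfl fun z _ => key z, Finset.sum_const, Finset.card_univ, hin,
    nsmul_eq_mul, Nat.card_eq_fintype_card]
  ring

end CfsgLib.ThreeCubed
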